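import Groth.Agent.CAlgUI.Swindle
import Groth.Agent.CAlgUI.Local
import Groth.Agent.CAlgUI.Projective
import Mathlib.RingTheory.LocalProperties.Projective
import Mathlib.RingTheory.LocalRing.Module
import Mathlib.RingTheory.Jacobson.Ideal
import Mathlib.RingTheory.Noetherian.Basic
import Mathlib.Algebra.DirectSum.Module
import Mathlib.Algebra.Module.LocalizedModule.Submodule
import Mathlib.RingTheory.Localization.AtPrime.Basic

/-! Big projective modules (after Bass). -/

namespace Groth.Agent.CAlgUI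

universe u

variable {R : Type u} [CommRing R] {P : Type u} [AddCommGroup P] [Module R P]

/-- Infinite rank everywhere: no finitely generated submodule spans `P / mP`. -/
def InfRank (R : Type u) [CommRing R] (P : Type u) [AddCommGroup P] [Module R P] : Prop :=
  ∀ m : Ideal R, m.IsMaximal → ∀ F : Submodule R P, F.FG → F ⊔ m • ⊤ ≠ ⊤

theorem infRank_of_not_finite_localization [Module.Projective R P]
    (hP : ∀ (m : Ideal R) [m.IsMaximal],
      ¬ Module.Finite (Localization.AtPrime m) (LocalizedModule m.primeCompl P)) : InfRank R P := by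
  intro m hm F hF htop
  refine hP m ?_
  let L := Localization.AtPrime m
  let Pm := LocalizedModule m.primeCompl P
  let f := LocalizedModule.mkLinearMap m.primeCompl P
  haveI : Module.Projective L Pm :=
    Module.projective_of_isLocalizedModule m.primeCompl f
  obtain ⟨κ, N, hN, hNc⟩ := exists_countablyGenerated_of_projective (R := L) (M := Pm)
  haveI : Module.Free L Pm := free_of_projective_local Pm N hN hNc
  let b := Module.Free.chooseBasis L Pm
  -- the coordinates met by `F`
  obtain ⟨T, hT⟩ := hF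
  classical
  let S : Finset (Module.Free.ChooseBasisIndex L Pm) := T.biUnion fun t => (b.repr (f t)).support
  by_cases hall : ∀ i, i ∈ S
  · haveI : Finite (Module.Free.ChooseBasisIndex L Pm) :=
      Finite.of_injective (fun i => (⟨i, hall i⟩ : S)) (fun a b h => congrArg Subtype.val h)
    exact Module.Finite.of_basis b
  push Not at hall
  obtain ⟨i, hi⟩ := hall
  exfalso
  let c : P →ₗ[R] L := ((Finsupp.lapply i).comp b.repr.toLinearMap).restrictScalars R ∘ₗ f
  have hmem : ∀ x ∈ F ⊔ m • (⊤ : Submodule R P), c x ∈ IsLocalRing.maximalIdeal L := by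
    have hle : F ⊔ m • (⊤ : Submodule R P) ≤
        (Submodule.restrictScalars R (IsLocalRing.maximalIdeal L)).comap c := by
      refine sup_le ?_ (Submodule.smul_le.mpr fun a ha y _ => ?_)
      · rw [← hT, Submodule.span_le]
        intro t ht
        show c t ∈ IsLocalRing.maximalIdeal L
        have : b.repr (f t) i = 0 := Finsupp.notMem_support_iff.mp fun h =>
          hi (Finset.mem_biUnion.mpr ⟨t, ht, h⟩)
        rw [show c t = b.repr (f t) i from rfl, this]
        exact zero_mem _
      · show c (a • y) ∈ IsLocalRing.maximalIdeal L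
        rw [map_smul, Algebra.smul_def]
        refine Ideal.mul_mem_right _ _ ?_
        rw [← Localization.AtPrime.map_eq_maximalIdeal]
        exact Ideal.mem_map_of_mem _ ha
    exact fun x hx => hle hx
  obtain ⟨⟨x, s⟩, hx⟩ := IsLocalizedModule.surj m.primeCompl f (b i)
  have h1 := hmem x (by rw [htop]; trivial)
  have h2 : c x = algebraMap R L (s : R) := by
    show b.repr (f x) i = _
    rw [← hx, Submonoid.smul_def, ← algebraMap_smul L (s : R) (b i), map_smul, Finsupp.smul_apply,
      Module.Basis.repr_self, Finsupp.single_eq_same, smul_eq_mul, mul_one]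
  rw [h2] at h1
  exact (IsLocalRing.mem_maximalIdeal _).mp h1 (IsLocalization.map_units L s)

theorem InfRank.of_surjective {Q : Type u} [AddCommGroup Q] [Module R Q] (h : InfRank R P)
    (g : Q →ₗ[R] P) (hg : Function.Surjective g) : InfRank R Q := by
  intro m hm F hF htop
  refine h m hm (F.map g) (hF.map g) ?_
  have := congrArg (Submodule.map g) htop
  rwa [Submodule.map_sup, Submodule.map_smul'', Submodule.map_top, LinearMap.range_eq_top.mpr hg] at this

theorem InfRank.of_isCompl (h : InfRank R P) {K Q : Submodule R P} (hc : IsCompl K Q) (hK : K.FG) :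
    InfRank R Q := by
  intro m hm F hF htop
  refine h m hm (K ⊔ F.map Q.subtype) (hK.sup (hF.map _)) ?_
  rw [eq_top_iff, ← hc.sup_eq_top, sup_assoc]
  refine sup_le_sup_left ?_ K
  have := congrArg (Submodule.map Q.subtype) htop
  rw [Submodule.map_sup, Submodule.map_smul'', Submodule.map_top, Submodule.range_subtype] at this
  refine this.ge.trans ?_
  exact sup_le_sup_left (Submodule.smul_mono le_rfl le_sup_right) _

theorem projective_of_isCompl [Module.Projective R P] {K Q : Submodule R P} (hc : IsCompl K Q) :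
    Module.Projective R Q :=
  Module.Projective.of_split Q.subtype (Q.projectionOnto K hc.symm)
    (LinearMap.ext fun x => by simp)

/-- Elements with all coordinates in `I` lie in `I • ⊤`. -/
theorem mem_smul_top_of_forall [Module.Projective R P] (I : Ideal R) (x : P)
    (h : ∀ φ : P →ₗ[R] R, φ x ∈ I) : x ∈ I • (⊤ : Submodule R P) := by
  obtain ⟨s, hs⟩ := Module.projective_def.mp (inferInstance : Module.Projective R P)
  rw [← hs x, Finsupp.linearCombination_apply]
  exact Submodule.sum_mem _ fun y _ =>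
    Submodule.smul_mem_smul (h ((Finsupp.lapply y).comp s)) Submodule.mem_top

/-- A module generated by one element and a submodule contains a unimodular translate. -/
theorem exists_add_unimodular [IsNoetherianRing (R ⧸ (⊥ : Ideal R).jacobson)] [Module.Projective R P]
    (hP : InfRank R P) (s : P) (M : Submodule R P) (hM : Submodule.span R {s} ⊔ M = ⊤) :
    ∃ m ∈ M, ∃ φ : P →ₗ[R] R, φ (s + m) = 1 := by
  classical
  set J := (⊥ : Ideal R).jacobson with hJ
  let o : P → Ideal (R ⧸ J) := fun x =>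
    Ideal.map (Ideal.Quotient.mk J) (LinearMap.range (LinearMap.applyₗ x : (P →ₗ[R] R) →ₗ[R] R))
  obtain ⟨I, ⟨m₀, hm₀, rfl⟩, hmax⟩ := set_has_maximal_iff_noetherian.mpr
    (inferInstance : IsNoetherian (R ⧸ J) (R ⧸ J)) {I | ∃ m ∈ M, o (s + m) = I}
    ⟨_, 0, M.zero_mem, rfl⟩
  set x := s + m₀ with hx
  by_cases htop : o x = ⊤
  · obtain ⟨r, ⟨φ, rfl⟩, hr⟩ := (Ideal.mem_map_iff_of_surjective (Ideal.Quotient.mk J)
      Ideal.Quotient.mk_surjective).mp (htop ▸ Submodule.mem_top : (1 : R ⧸ J) ∈ o x)
    rw [← map_one (Ideal.Quotient.mk J), Ideal.Quotient.eq] at hr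
    have hu : IsUnit (φ x) := by
      have := Ideal.isUnit_of_sub_one_mem_jacobson_bot _ hr
      exact this
    obtain ⟨v, hv⟩ := hu.exists_left_inv
    exact ⟨m₀, hm₀, v • φ, by rw [← hx, LinearMap.smul_apply, smul_eq_mul, hv]⟩
  exfalso
  set I : Ideal R := (o x).comap (Ideal.Quotient.mk J) with hI
  have hmemI : ∀ φ : P →ₗ[R] R, φ x ∈ I := fun φ => Ideal.mem_map_of_mem _ ⟨φ, rfl⟩
  obtain ⟨m, hm, hIm⟩ := Ideal.exists_le_maximal I (fun h => htop (by
    rw [← Ideal.map_comap_of_surjective _ Ideal.Quotient.mk_surjective (o x), ← hI, h, Ideal.map_top]))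
  -- generators of `o x`
  obtain ⟨G, hG⟩ := IsNoetherian.noetherian (o x)
  have hG' : ∀ g ∈ G, ∃ φ : P →ₗ[R] R, Ideal.Quotient.mk J (φ x) = g := by
    intro g hg
    obtain ⟨r, ⟨φ, rfl⟩, hr⟩ := (Ideal.mem_map_iff_of_surjective (Ideal.Quotient.mk J)
      Ideal.Quotient.mk_surjective).mp (hG ▸ Submodule.subset_span hg : g ∈ o x)
    exact ⟨φ, hr⟩
  choose! φ hφ using hG'
  let Φ : P →ₗ[R] (G → R ⧸ J) :=
    LinearMap.pi fun g => (Submodule.mkQ J).comp (φ g)
  haveI : IsNoetherian R (R ⧸ J) := by
    haveI : RingHomSurjective (Ideal.Quotient.mk J) := ⟨Ideal.Quotient.mk_surjective⟩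
    let l : (R ⧸ J) →ₛₗ[Ideal.Quotient.mk J] (R ⧸ J) :=
      { toFun := id, map_add' := fun _ _ => rfl, map_smul' := fun r y => by
          show r • y = Ideal.Quotient.mk J r • y
          rw [Algebra.smul_def, smul_eq_mul]; rfl }
    exact (LinearMap.isNoetherian_iff_of_bijective l Function.bijective_id).mpr inferInstance
  obtain ⟨T, hT⟩ := IsNoetherian.noetherian (M.map Φ)
  have hT' : ∀ t ∈ T, ∃ y ∈ M, Φ y = t := fun t ht =>
    Submodule.mem_map.mp (hT ▸ Submodule.subset_span ht)
  choose! y hyM hy using hT'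
  obtain ⟨n, hn, hnI⟩ : ∃ n ∈ M ⊓ LinearMap.ker Φ, n ∉ I • (⊤ : Submodule R P) := by
    by_contra hc
    push Not at hc
    refine hP m hm (Submodule.span R (insert s (y '' (T : Set (G → R ⧸ J)))))
      (Submodule.fg_span ((T.finite_toSet.image y).insert s)) (eq_top_iff.mpr ?_)
    refine hM.ge.trans ?_
    rw [sup_le_iff, Submodule.span_singleton_le_iff_mem]
    refine ⟨Submodule.mem_sup_left (Submodule.subset_span (Set.mem_insert _ _)), fun z hz => ?_⟩
    have hz' : Φ z ∈ (Submodule.span R (y '' (T : Set (G → R ⧸ J)))).map Φ := by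
      rw [Submodule.map_span, ← Set.image_comp]
      have himg : (fun t => Φ (y t)) '' (T : Set (G → R ⧸ J)) = T := by
        ext t
        exact ⟨fun ⟨t', ht', h⟩ => (h.symm.trans (hy t' ht')) ▸ ht', fun ht => ⟨t, ht, hy t ht⟩⟩
      rw [show (Φ ∘ y) = fun t => Φ (y t) from rfl, himg, hT]
      exact Submodule.mem_map_of_mem hz
    obtain ⟨w, hw, hwz⟩ := hz'
    have hwM : w ∈ M := (Submodule.span_le.mpr (by rintro _ ⟨t, ht, rfl⟩; exact hyM t ht)) hw
    rw [← sub_add_cancel z w, add_comm]
    refine Submodule.add_mem_sup (Submodule.span_mono (Set.subset_insert _ _) hw) ?_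
    exact Submodule.smul_mono_left hIm (hc _ ⟨M.sub_mem hz hwM, by
      rw [SetLike.mem_coe, LinearMap.mem_ker, map_sub, hwz, sub_self]⟩)
  obtain ⟨ψ, hψ⟩ : ∃ ψ : P →ₗ[R] R, ψ n ∉ I := by
    by_contra hc
    push Not at hc
    exact hnI (mem_smul_top_of_forall I n hc)
  refine hmax (o (s + (m₀ + n))) ⟨_, M.add_mem hm₀ hn.1, rfl⟩ (lt_of_le_of_ne ?_ ?_)
  · rw [← hG, Ideal.span_le]
    intro g hg
    have h0 : Ideal.Quotient.mk J (φ g n) = 0 := congrFun (LinearMap.mem_ker.mp hn.2) ⟨g, hg⟩
    rw [← hφ g hg, ← add_zero (Ideal.Quotient.mk J _), ← h0, ← map_add, ← map_add]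
    exact Ideal.mem_map_of_mem _ ⟨φ g, by simp [hx, add_assoc]⟩
  · intro heq
    have h1 : Ideal.Quotient.mk J (ψ (s + (m₀ + n))) ∈ o x := heq ▸ Ideal.mem_map_of_mem _ ⟨ψ, rfl⟩
    refine hψ ?_
    have h2 : ψ x + ψ n ∈ I := by
      rw [← map_add, hx, add_assoc]; exact h1
    exact (Ideal.add_mem_iff_right I (hmemI ψ)).mp h2

/-- One free coordinate can be removed. -/
theorem exists_free_summand_of_prod {Q : Type u} [AddCommGroup Q] [Module R Q]
    [IsNoetherianRing (R ⧸ (⊥ : Ideal R).jacobson)] [Module.Projective R Q] (hQ : InfRank R Q)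
    {s : Q} (K K' : Submodule R (R × Q)) (hc : IsCompl K K') (hfree : Module.Free R K)
    (hfin : Module.Finite R K) (hs : ((0, s) : R × Q) ∈ K) :
    ∃ L L' : Submodule R Q, IsCompl L L' ∧ Module.Free R L ∧ Module.Finite R L ∧ s ∈ L := by
  let π' := K'.projectionOnto K hc.symm
  let π := K.projectionOnto K' hc
  haveI := projective_of_isCompl (P := R × Q) hc
  have hrank : InfRank R K' :=
    (hQ.of_surjective (LinearMap.snd R R Q) LinearMap.snd_surjective).of_isCompl hc
      (Module.Finite.iff_fg.mp hfin)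
  obtain ⟨_, ⟨q, rfl⟩, φ, hφ⟩ := exists_add_unimodular hrank (π' (1, 0))
    (LinearMap.range (π'.comp (LinearMap.inr R R Q))) (by
      refine eq_top_iff.mpr fun z _ => ?_
      have : z = z.1.1 • π' (1, 0) + π' (0, z.1.2) := by
        rw [← map_smul, ← map_add]
        conv_lhs => rw [← Submodule.projectionOnto_apply_left hc.symm z]
        congr 1
        exact Prod.ext (by simp) (by simp)
      rw [this]
      exact Submodule.add_mem_sup (Submodule.smul_mem _ _ (Submodule.mem_span_singleton_self _)) ⟨_, rfl⟩)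
  let ψ : R × Q →ₗ[R] R := φ.comp π'
  let e : R × Q := (1, q)
  have hψe : ψ e = 1 := by
    show φ (π' (1, q)) = 1
    refine Eq.trans ?_ hφ
    rw [LinearMap.comp_apply, LinearMap.inr_apply, ← map_add π']
    simp
  have hψK : ∀ k : K, ψ k = 0 := fun k => by
    show φ (π' k) = 0
    rw [Submodule.projectionOnto_apply_right hc.symm k, map_zero]
  let ρ : R × Q →ₗ[R] Q := LinearMap.snd R R Q - (LinearMap.fst R R Q).smulRight q
  let j : Q →ₗ[R] R × Q := LinearMap.inr R R Q
  let g : Q →ₗ[R] K := π.comp (j - (ψ.comp j).smulRight e)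
  have hgρ : ∀ k : K, g (ρ k) = k := by
    intro k
    have h1 : j (ρ k) = (k : R × Q) - (k : R × Q).1 • e := by
      refine Prod.ext ?_ ?_
      · simp [j, e]
      · simp [j, ρ, e]
    show π (j (ρ k) - ψ (j (ρ k)) • e) = k
    rw [h1, map_sub ψ, hψK, map_smul ψ, hψe, smul_eq_mul, mul_one, zero_sub, neg_smul, sub_neg_eq_add,
      sub_add_cancel]
    exact Submodule.projectionOnto_apply_left hc k
  let ι : K →ₗ[R] Q := ρ.comp K.subtype
  have hι : Function.Injective ι := Function.LeftInverse.injective hgρ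
  refine ⟨LinearMap.range ι, LinearMap.ker g, ?_, Module.Free.of_equiv (LinearEquiv.ofInjective ι hι),
    Module.Finite.equiv (LinearEquiv.ofInjective ι hι), ⟨⟨_, hs⟩, by simp [ι, ρ]⟩⟩
  refine ⟨Submodule.disjoint_def.2 ?_, codisjoint_iff.2 (eq_top_iff.2 fun x _ => ?_)⟩
  · rintro _ ⟨y, rfl⟩ hy
    rw [LinearMap.mem_ker] at hy
    rw [show y = 0 from (hgρ y).symm.trans hy, map_zero]
  · exact Submodule.mem_sup.2 ⟨ι (g x), ⟨_, rfl⟩, x - ι (g x),
      by rw [LinearMap.mem_ker, map_sub, show g (ι (g x)) = g x from hgρ _, sub_self], add_sub_cancel _ _⟩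

/-- Transport of a finite free summand. -/
theorem summand_map {P' : Type u} [AddCommGroup P'] [Module R P'] (e : P ≃ₗ[R] P') {K K' : Submodule R P}
    (hc : IsCompl K K') (hfree : Module.Free R K) (hfin : Module.Finite R K) :
    IsCompl (K.map e.toLinearMap) (K'.map e.toLinearMap) ∧ Module.Free R (K.map e.toLinearMap) ∧
      Module.Finite R (K.map e.toLinearMap) :=
  ⟨hc.map (Submodule.orderIsoMapComap e), Module.Free.of_equiv (e.submoduleMap K),
    Module.Finite.equiv (e.submoduleMap K)⟩

/-- Every element lies in a finite free direct summand. -/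
theorem exists_finite_free_summand_mem [IsNoetherianRing (R ⧸ (⊥ : Ideal R).jacobson)]
    [Module.Projective R P] (hP : InfRank R P) (s : P) :
    ∃ L L' : Submodule R P, IsCompl L L' ∧ Module.Free R L ∧ Module.Finite R L ∧ s ∈ L := by
  obtain ⟨n, K, K', hc, hfree, hfin, hs⟩ := exists_finite_free_summand (R := R) s
  induction n with
  | zero =>
    let e : ((Fin 0 → R) × P) ≃ₗ[R] P := LinearEquiv.uniqueProd (R := R) (M := P) (M₂ := Fin 0 → R)
    obtain ⟨h1, h2, h3⟩ := summand_map e hc hfree hfin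
    exact ⟨_, _, h1, h2, h3, ⟨_, hs, rfl⟩⟩
  | succ n ih =>
    let e : ((Fin (n + 1) → R) × P) ≃ₗ[R] (R × ((Fin n → R) × P)) :=
      ((Fin.consLinearEquiv R (fun _ : Fin (n + 1) => R)).symm.prodCongr (LinearEquiv.refl R P)).trans
        (LinearEquiv.prodAssoc R R (Fin n → R) P)
    obtain ⟨h1, h2, h3⟩ := summand_map e hc hfree hfin
    have hs' : ((0, (0, s)) : R × ((Fin n → R) × P)) ∈ K.map e.toLinearMap :=
      ⟨_, hs, by simp [e]; rfl⟩
    obtain ⟨L, L', hL, hLf, hLfin, hsL⟩ := exists_free_summand_of_prod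
      (hP.of_surjective (LinearMap.snd R (Fin n → R) P) LinearMap.snd_surjective) _ _ h1 h2 h3 hs'
    exact ih L L' hL hLf hLfin hsL

/-- A countably generated projective module of infinite rank is free. -/
theorem free_of_countable [IsNoetherianRing (R ⧸ (⊥ : Ideal R).jacobson)] [Module.Projective R P]
    (hP : InfRank R P) (s : ℕ → P) (hs : Submodule.span R (Set.range s) = ⊤) : Module.Free R P := by
  classical
  -- states: a finitely generated summand and a complement
  let St := {FQ : Submodule R P × Submodule R P // IsCompl FQ.1 FQ.2 ∧ FQ.1.FG}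
  have hstep : ∀ (a : St) (x : P), ∃ b : St, ∃ K : Submodule R P, Module.Free R K ∧ K ≤ a.1.2 ∧
      b.1.1 = a.1.1 ⊔ K ∧ b.1.2 ≤ a.1.2 ∧ x ∈ b.1.1 := by
    rintro ⟨⟨F, Q⟩, hc, hF⟩ x
    haveI := projective_of_isCompl hc
    obtain ⟨L, L', hL, hLfree, hLfin, hxL⟩ := exists_finite_free_summand_mem
      (hP.of_isCompl hc hF) (Q.projectionOnto F hc.symm x)
    have hmap : ∀ {z : Q} {S : Submodule R Q}, z ∈ S → (z : P) ∈ S.map Q.subtype :=
      fun {z S} h => ⟨z, h, rfl⟩
    refine ⟨⟨(F ⊔ L.map Q.subtype, L'.map Q.subtype), ⟨?_, ?_⟩,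
      hF.sup ((Module.Finite.iff_fg.mp hLfin).map _)⟩, L.map Q.subtype,
      Module.Free.of_equiv (Submodule.equivMapOfInjective Q.subtype Q.subtype_injective L),
      Submodule.map_subtype_le Q L, rfl, Submodule.map_subtype_le Q L', ?_⟩
    · rw [Submodule.disjoint_def]
      intro z hz hz'
      obtain ⟨a, ha, _, ⟨b, hb, rfl⟩, rfl⟩ := Submodule.mem_sup.mp hz
      obtain ⟨c, hc', hzc⟩ := hz'
      have hzc' : (c : P) = a + b := hzc
      have ha0 : a = 0 := Submodule.disjoint_def.mp hc.disjoint a ha (by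
        rw [show a = ((c : P)) - b by rw [hzc']; abel]
        exact Q.sub_mem c.2 b.2)
      subst ha0
      rw [zero_add] at hzc' ⊢
      have : c = b := Subtype.ext hzc'
      subst this
      rw [Submodule.disjoint_def.mp hL.disjoint c hb hc']
      rfl
    · refine codisjoint_iff.mpr (eq_top_iff.mpr fun z _ => ?_)
      obtain ⟨a, ha, b, hb, rfl⟩ := Submodule.mem_sup.mp
        (hc.sup_eq_top.symm ▸ Submodule.mem_top : z ∈ F ⊔ Q)
      obtain ⟨c, hc', d, hd, hcd⟩ := Submodule.mem_sup.mp
        (hL.sup_eq_top.symm ▸ Submodule.mem_top : (⟨b, hb⟩ : Q) ∈ L ⊔ L')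
      rw [show a + b = (a + c) + d by
        rw [show b = (c : P) + d from (congrArg Subtype.val hcd).symm]; abel]
      exact Submodule.add_mem_sup (Submodule.add_mem_sup ha (hmap hc')) (hmap hd)
    · show x ∈ F ⊔ L.map Q.subtype
      have hxd : x - (Q.projectionOnto F hc.symm x : P) ∈ F := by
        rw [← Submodule.projectionOnto_apply_eq_zero_iff hc.symm, map_sub,
          Submodule.projectionOnto_apply_left hc.symm, sub_self]
      rw [← sub_add_cancel x (Q.projectionOnto F hc.symm x : P)]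
      exact Submodule.add_mem_sup hxd (hmap hxL)
  choose next K hKfree hKle hnext hQle hxmem using hstep
  let z : ℕ → St := fun n => Nat.rec ⟨(⊥, ⊤), isCompl_bot_top, Submodule.fg_bot⟩ (fun i a => next a (s i)) n
  let F : ℕ → Submodule R P := fun n => (z n).1.1
  let Q : ℕ → Submodule R P := fun n => (z n).1.2
  let B : ℕ → Submodule R P := fun n => K (z n) (s n)
  have hF : ∀ n, F (n + 1) = F n ⊔ B n := fun n => hnext _ _
  have hFmono : Monotone F := monotone_nat_of_le_succ fun n => le_sup_left.trans (hF n).ge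
  have hQanti : Antitone Q := antitone_nat_of_succ_le fun n => hQle _ _
  have hFle : ∀ n, F n ≤ ⨆ i, B i := by
    intro n
    induction n with
    | zero => exact bot_le
    | succ n ih => rw [hF]; exact sup_le ih (le_iSup B n)
  have hBF : ∀ n, B n ≤ F (n + 1) := fun n => le_sup_right.trans (hF n).ge
  have hBQ : ∀ n, B n ≤ Q n := fun n => hKle _ _
  have hind : iSupIndep B := by
    intro i
    have hle : ⨆ (j) (_ : j ≠ i), B j ≤ F i ⊔ Q (i + 1) := by
      refine iSup₂_le fun j hj => ?_
      rcases lt_or_gt_of_ne hj with h | h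
      · exact ((hBF j).trans (hFmono h)).trans le_sup_left
      · exact ((hBQ j).trans (hQanti h)).trans le_sup_right
    refine Disjoint.mono_right hle (Submodule.disjoint_def.mpr fun k hk hk' => ?_)
    obtain ⟨f, hf, q, hq, rfl⟩ := Submodule.mem_sup.mp hk'
    have hf0 : f = 0 := Submodule.disjoint_def.mp (z i).2.1.disjoint f hf (by
      have : f = (f + q) - q := by abel
      rw [this]
      exact (Q i).sub_mem (hBQ i hk) (hQanti (Nat.le_succ i) hq))
    subst hf0
    rw [zero_add] at hk ⊢
    exact Submodule.disjoint_def.mp (z (i + 1)).2.1.disjoint q (hBF i hk) hq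
  have htop : iSup B = ⊤ := by
    rw [eq_top_iff, ← hs, Submodule.span_le]
    rintro _ ⟨i, rfl⟩
    exact hFle (i + 1) (hxmem _ _)
  have hint : DirectSum.IsInternal B :=
    DirectSum.isInternal_submodule_iff_iSupIndep_and_iSup_eq_top B |>.mpr ⟨hind, htop⟩
  haveI : ∀ n, Module.Free R (B n) := fun n => hKfree _ _
  exact Module.Free.of_basis (hint.collectedBasis fun n => Module.Free.chooseBasis R (B n))

end Groth.Agent.CAlgUI
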