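import Groth.Agent.CAlgOdd.FreeComplUI
import Groth.Agent.FreeCompl.Basic
import Groth.Agent.CAlgOdd.NilProj
import Groth.Agent.CAlgUI.FlatML
import Groth.Agent.CAlgUI.ML
import Groth.Agent.CAlgUI.Countable
import Groth.Agent.H4RG.WeakAssTensor
import Groth.Agent.H4RG.MLBase

/-!
# Completions of free modules and projectivity
-/

set_option autoImplicit false
set_option backward.isDefEq.respectTransparency.types false

universe u

open TensorProduct

namespace Groth.Agent.CAlgUI.ComplML

variable {R : Type u} [CommRing R] [IsNoetherianRing R] (I : Ideal R) [IsAdicComplete I R]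

theorem free_props (α : Type u) :
    Module.Flat R (AdicCompletion I (α →₀ R)) ∧ CAlg.IsMittagLeffler R (AdicCompletion I (α →₀ R)) := by
  refine ⟨FreeCompl.flat_adicCompletion_finsupp (I := I), ?_⟩
  let e : (α → R) ≃ₗ[R] (α → AdicCompletion I R) :=
    LinearEquiv.piCongrRight fun _ => AdicCompletion.ofLinearEquiv I R
  have h : CAlg.IsMittagLeffler R (α → AdicCompletion I R) :=
    ml_of_ui e.symm.toLinearMap (ui_of_leftInverse e.toLinearMap (LinearMap.ext e.apply_symm_apply)) (ml_powers α)
  exact ml_of_ui _ (Groth.Agent.CAlgOdd.FreeComplUI.universallyInjective I α) h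

variable (M : Type u) [AddCommGroup M] [Module R M] [Module.Flat R M]
  [Module.Projective (R ⧸ I) (M ⧸ (I • ⊤ : Submodule R M))]

/-- Compatible sections modulo all powers. -/
theorem exists_sections {F : Type u} [AddCommGroup F] [Module R F] [Module.Projective R F]
    (π : F →ₗ[R] M) (hπ : Function.Surjective π) :
    ∃ t : ∀ n, M →ₗ[R] F ⧸ (I ^ n • ⊤ : Submodule R F),
      (∀ n m, LinearMap.reduceModIdeal (I ^ n) π (t n m) = Submodule.Quotient.mk m) ∧
      ∀ {k n : ℕ} (h : k ≤ n), AdicCompletion.transitionMap I F h ∘ₗ t n = t k := by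
  classical
  let q₀ := LinearMap.reduceModIdeal I π
  let q : (F ⧸ (I • ⊤ : Submodule R F)) →ₗ[R ⧸ I] (M ⧸ (I • ⊤ : Submodule R M)) :=
    { toFun := q₀
      map_add' := map_add q₀
      map_smul' := fun c x => by
        obtain ⟨c, rfl⟩ := Ideal.Quotient.mk_surjective c
        exact q₀.map_smul c x }
  have hq : Function.Surjective q := by
    intro y
    obtain ⟨m, rfl⟩ := Submodule.mkQ_surjective _ y
    obtain ⟨f, rfl⟩ := hπ m
    exact ⟨Submodule.Quotient.mk f, rfl⟩
  obtain ⟨s, hs⟩ := Module.projective_lifting_property q LinearMap.id hq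
  have hs' : ∀ y, q₀ (s y) = y := fun y => LinearMap.congr_fun hs y
  let K : Submodule R F := LinearMap.ker π
  let W : Submodule R (F ⧸ (I • ⊤ : Submodule R F)) := LinearMap.range (Submodule.mkQ _ ∘ₗ K.subtype)
  let D : F →ₗ[R] F ⧸ (I • ⊤ : Submodule R F) :=
    Submodule.mkQ _ - s.restrictScalars R ∘ₗ Submodule.mkQ _ ∘ₗ π
  have hD : ∀ f, D f ∈ W := by
    intro f
    obtain ⟨g, hg⟩ := Submodule.mkQ_surjective _ (s (Submodule.Quotient.mk (π f)))
    have h1 : π g - π f ∈ (I • ⊤ : Submodule R M) := by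
      rw [← Submodule.Quotient.eq, ← hs' (Submodule.Quotient.mk (π f)), ← hg]
      rfl
    rw [show (I • ⊤ : Submodule R M) = Submodule.map π (I • ⊤) by
      rw [Submodule.map_smul'', Submodule.map_top, LinearMap.range_eq_top.2 hπ]] at h1
    obtain ⟨z, hz, hzπ⟩ := h1
    refine ⟨⟨f - g + z, LinearMap.mem_ker.2 (by rw [map_add, map_sub, hzπ]; abel)⟩, ?_⟩
    show Submodule.Quotient.mk (f - g + z) = Submodule.Quotient.mk f - s (Submodule.Quotient.mk (π f))
    rw [← hg, Submodule.mkQ_apply, ← Submodule.Quotient.mk_sub, Submodule.Quotient.eq,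
      show f - g + z - (f - g) = z by abel]
    exact hz
  obtain ⟨r, hr'⟩ := Module.projective_lifting_property (LinearMap.rangeRestrict (Submodule.mkQ _ ∘ₗ K.subtype))
    (D.codRestrict W hD) (LinearMap.surjective_rangeRestrict _)
  have hr : ∀ f : F, (Submodule.Quotient.mk (f - (r f : F)) : F ⧸ (I • ⊤ : Submodule R F)) =
      s (Submodule.Quotient.mk (π f)) := by
    intro f
    have h1 : (Submodule.Quotient.mk (r f : F) : F ⧸ (I • ⊤ : Submodule R F)) =
        Submodule.Quotient.mk f - s (Submodule.Quotient.mk (π f)) :=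
      congrArg Subtype.val (LinearMap.congr_fun hr' f)
    rw [Submodule.Quotient.mk_sub, h1, sub_sub_cancel]
  let rK : Module.End R K := r ∘ₗ K.subtype
  let N : Module.End R K := 1 - rK
  have hN : ∀ y : K, N y ∈ I • (⊤ : Submodule R K) := by
    intro y
    have h1 := hr (y : F)
    rw [LinearMap.mem_ker.1 y.2, Submodule.Quotient.mk_zero, map_zero, Submodule.Quotient.mk_eq_zero] at h1
    refine (CAlgOdd.one_tmul_quot_eq_zero_iff I (X := K) (N y)).1 ?_
    have hinj : Function.Injective (K.subtype.lTensor (R ⧸ I)) :=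
      LinearMap.lTensor_injective_of_exact_of_flat π hπ K.subtype Subtype.val_injective
        π.exact_subtype_ker_map (R ⧸ I)
    apply hinj
    rw [map_zero, LinearMap.lTensor_tmul, CAlgOdd.one_tmul_quot_eq_zero_iff]
    simpa [N, rK] using h1
  have hpow : ∀ m, LinearMap.range (N ^ m) ≤ I ^ m • (⊤ : Submodule R K) := by
    intro m
    induction m with
    | zero => simp
    | succ m ih =>
      rw [pow_succ N, Module.End.mul_eq_comp, LinearMap.range_comp]
      refine (Submodule.map_mono (f := N ^ m)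
        (show LinearMap.range N ≤ I • ⊤ by rintro _ ⟨x, rfl⟩; exact hN x)).trans ?_
      rw [Submodule.map_smul'', Submodule.map_top, pow_succ', Submodule.mul_smul]
      exact Submodule.smul_mono le_rfl ih
  have hsub : ∀ (m : ℕ) (y : K), y ∈ (I ^ m • ⊤ : Submodule R K) → (y : F) ∈ (I ^ m • ⊤ : Submodule R F) := by
    intro m y hy
    have := Submodule.mem_map_of_mem (f := K.subtype) hy
    rw [Submodule.map_smul''] at this
    exact Submodule.smul_mono le_rfl le_top this
  let φ : ∀ n, F →ₗ[R] F ⧸ (I ^ n • ⊤ : Submodule R F) := fun n =>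
    Submodule.mkQ _ ∘ₗ (LinearMap.id - K.subtype ∘ₗ (∑ i ∈ Finset.range n, N ^ i) ∘ₗ r)
  have hφK : ∀ n, LinearMap.ker π ≤ LinearMap.ker (φ n) := by
    intro n f hf
    let y : K := ⟨f, hf⟩
    have hgeom : (∑ i ∈ Finset.range n, N ^ i) (r f) = y - (N ^ n) y := by
      have hry : r f = ((1 : Module.End R K) - N) y := by simp [N, rK, y]
      rw [hry, ← Module.End.mul_apply, geom_sum_mul_neg, LinearMap.sub_apply, Module.End.one_apply]
    rw [LinearMap.mem_ker, LinearMap.comp_apply, Submodule.mkQ_apply, Submodule.Quotient.mk_eq_zero,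
      LinearMap.sub_apply, LinearMap.id_apply, LinearMap.comp_apply, LinearMap.comp_apply, hgeom,
      Submodule.subtype_apply, Submodule.coe_sub, sub_sub_cancel]
    exact hsub n _ (hpow n ⟨y, rfl⟩)
  let t : ∀ n, M →ₗ[R] F ⧸ (I ^ n • ⊤ : Submodule R F) := fun n =>
    (LinearMap.ker π).liftQ (φ n) (hφK n) ∘ₗ (LinearMap.quotKerEquivOfSurjective π hπ).symm.toLinearMap
  have ht : ∀ n f, t n (π f) = φ n f := by
    intro n f
    have he : (LinearMap.quotKerEquivOfSurjective π hπ).symm (π f) = Submodule.Quotient.mk f := by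
      rw [LinearEquiv.symm_apply_eq]; rfl
    simp [t, he]
  refine ⟨t, fun n m => ?_, fun {a b} hab => LinearMap.ext fun m => ?_⟩
  · obtain ⟨f, rfl⟩ := hπ m
    rw [ht]
    show Submodule.Quotient.mk (π _) = _
    rw [LinearMap.sub_apply, LinearMap.id_apply, map_sub, LinearMap.comp_apply, Submodule.subtype_apply,
      LinearMap.mem_ker.1 (Subtype.prop _), sub_zero]
  · obtain ⟨f, rfl⟩ := hπ m
    rw [LinearMap.comp_apply, ht, ht]
    show Submodule.Quotient.mk _ = Submodule.Quotient.mk _
    rw [Submodule.Quotient.eq]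
    simp only [LinearMap.sub_apply, LinearMap.id_apply, LinearMap.comp_apply, Submodule.subtype_apply]
    rw [sub_sub_sub_cancel_left, ← Submodule.coe_sub, ← neg_sub ((∑ i ∈ Finset.range b, N ^ i) (r f)),
      Submodule.coe_neg]
    refine neg_mem (hsub a _ ?_)
    rw [show ∀ v, (∑ i ∈ Finset.range b, N ^ i) v - (∑ i ∈ Finset.range a, N ^ i) v =
      (∑ i ∈ Finset.Ico a b, N ^ i) v from fun v => by rw [Finset.sum_Ico_eq_sub _ hab]; rfl, LinearMap.sum_apply]
    exact Submodule.sum_mem _ fun i hi => Submodule.smul_mono (Ideal.pow_le_pow_right (Finset.mem_Ico.1 hi).1) le_rfl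
      (hpow i ⟨_, rfl⟩)

theorem completion_props :
    Module.Flat R (AdicCompletion I M) ∧ CAlg.IsMittagLeffler R (AdicCompletion I M) := by
  let π : (M →₀ R) →ₗ[R] M := Finsupp.linearCombination R id
  obtain ⟨t, ht, htc⟩ := exists_sections I M π (Finsupp.linearCombination_id_surjective R M)
  let T : ∀ n, AdicCompletion I M →ₗ[R] (M →₀ R) ⧸ (I ^ n • ⊤ : Submodule R (M →₀ R)) := fun n =>
    (I ^ n • ⊤ : Submodule R M).liftQ (t n) (by
      refine Submodule.smul_le.2 fun a ha x _ => LinearMap.mem_ker.2 ?_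
      obtain ⟨y, hy⟩ := Submodule.mkQ_surjective _ (t n x)
      rw [map_smul, ← hy, ← map_smul, Submodule.mkQ_apply, Submodule.Quotient.mk_eq_zero]
      exact Submodule.smul_mem_smul ha trivial) ∘ₗ AdicCompletion.eval I M n
  let σ : AdicCompletion I M →ₗ[R] AdicCompletion I (M →₀ R) := AdicCompletion.lift I T fun {k n} hkn => by
    refine LinearMap.ext fun x => ?_
    obtain ⟨m, hm⟩ := Submodule.mkQ_surjective _ (x.val n)
    have hk : x.val k = Submodule.Quotient.mk m := by
      rw [← x.property hkn, ← hm]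
      rfl
    simp only [T, LinearMap.comp_apply, AdicCompletion.eval_apply]
    rw [← hm, hk, Submodule.mkQ_apply, Submodule.liftQ_apply, Submodule.liftQ_apply]
    exact LinearMap.congr_fun (htc hkn) m
  let ρ := AdicCompletion.map I π
  have hρσ : ∀ x, ρ.restrictScalars R (σ x) = x := by
    intro x
    ext n
    obtain ⟨m, hm⟩ := Submodule.mkQ_surjective _ (x.val n)
    show LinearMap.reduceModIdeal (I ^ n) π (T n x) = x.val n
    simp only [T, LinearMap.comp_apply, AdicCompletion.eval_apply]
    rw [← hm, Submodule.mkQ_apply, Submodule.liftQ_apply]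
    exact ht n m
  obtain ⟨hflat, hml⟩ := free_props I (M : Type u)
  haveI := hflat
  exact ⟨Module.Flat.of_retract σ (ρ.restrictScalars R) (LinearMap.ext hρσ),
    ml_of_ui σ (ui_of_leftInverse (ρ.restrictScalars R) (LinearMap.ext hρσ)) hml⟩

/-- Projectivity from the relative assassin meeting `V(I)`. -/
theorem projective {S : Type u} [CommRing S] [Algebra R S] [Algebra.FiniteType R S]
    (N : Type u) [AddCommGroup N] [Module S N] [Module R N] [IsScalarTower R S N] [Module.Finite S N]
    [Module.Flat R N] [Module.Projective (R ⧸ I) (N ⧸ (I • ⊤ : Submodule R N))]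
    (h : ∀ (p : Ideal R) (q : Ideal S) [p.IsPrime] [q.IsPrime] [q.LiesOver p],
      FlatCA.fiberIdeal p q ∈ associatedPrimes (p.Fiber S) (FlatCA.fiberMod p S N) → I.map (algebraMap R S) ⊔ q ≠ ⊤) :
    Module.Projective R N := by
  classical
  obtain ⟨hflat, hml⟩ := completion_props I N
  haveI := hflat
  haveI : IsNoetherianRing S := Algebra.FiniteType.isNoetherianRing R S
  have hui : CAlgX.UniversallyInjective R (AdicCompletion.of I N) := by
    refine (ui_iff_quotient_ideals _).2 fun J _ => (injective_iff_map_eq_zero _).2 fun y hy => ?_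
    have hlevel : ∀ n, y ∈ (I.map (algebraMap R S) ^ n • ⊤ : Submodule S (N ⊗[R] (R ⧸ J))) := by
      intro n
      have h1 := congrArg (LinearMap.rTensor (R ⧸ J) (AdicCompletion.eval I N n)) hy
      rw [← LinearMap.rTensor_comp_apply, map_zero,
        show AdicCompletion.eval I N n ∘ₗ AdicCompletion.of I N = Submodule.mkQ _ from rfl] at h1
      obtain ⟨z, rfl⟩ := (rTensor_exact (R ⧸ J) (LinearMap.exact_subtype_mkQ (I ^ n • ⊤ : Submodule R N))
        (Submodule.mkQ_surjective _) y).1 h1
      clear h1 hy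
      induction z with
      | zero => simp
      | add a b ha hb => rw [map_add]; exact add_mem ha hb
      | tmul x c =>
        rw [LinearMap.rTensor_tmul, Submodule.subtype_apply]
        obtain ⟨x, hx⟩ := x
        refine Submodule.smul_induction_on (p := fun x => x ⊗ₜ[R] c ∈ _) hx (fun a ha w _ => ?_) fun u v hu hv => ?_
        · rw [← TensorProduct.smul_tmul', ← algebraMap_smul S a (w ⊗ₜ[R] c), ← Ideal.map_pow]
          exact Submodule.smul_mem_smul (Ideal.mem_map_of_mem _ ha) trivial
        · rw [TensorProduct.add_tmul]; exact add_mem hu hv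
    obtain ⟨r, hr⟩ := ((I.map (algebraMap R S)).mem_iInf_smul_pow_eq_bot_iff y).1 (Submodule.mem_iInf _ |>.2 hlevel)
    by_contra hne
    haveI : Module.Finite S (N ⊗[R] (R ⧸ J)) := by
      refine Module.Finite.of_surjective ((AlgebraTensorModule.mk R S N (R ⧸ J)).flip (1 : R ⧸ J)) fun z => ?_
      induction z with
      | zero => exact ⟨0, map_zero _⟩
      | add a b ha hb =>
        obtain ⟨a, rfl⟩ := ha
        obtain ⟨b, rfl⟩ := hb
        exact ⟨a + b, map_add _ _ _⟩
      | tmul x c =>
        obtain ⟨c, rfl⟩ := Ideal.Quotient.mk_surjective c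
        exact ⟨c • x, by
          show (c • x) ⊗ₜ[R] (1 : R ⧸ J) = _
          rw [TensorProduct.smul_tmul, Algebra.smul_def, mul_one]; rfl⟩
    obtain ⟨P, hP, hle⟩ := exists_le_isAssociatedPrime_of_isNoetherianRing S y hne
    haveI := hP.1
    have hmem : (1 : S) - r ∈ P := hle (Submodule.mem_colon_singleton.2 (by
      rw [Submodule.mem_bot, sub_smul, one_smul, hr, sub_self]))
    have hweak : P ∈ FlatCA.weakAss S (N ⊗[R] (R ⧸ J)) := by
      obtain ⟨z, hz⟩ := hP.2
      rw [Submodule.bot_colon'] at hz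
      exact ⟨z, ⟨hP.1, hz ▸ Ideal.le_radical⟩, fun t ht _ => hz ▸ (ht.1.radical_le_iff.2 ht.2)⟩
    haveI : P.LiesOver (P.under R) := ⟨rfl⟩
    haveI : Module.Flat R (LocalizedModule P.primeCompl N) := EssFPDescent.flat_localizedModule N P.primeCompl
    obtain ⟨-, hass⟩ := H4RG.weakAss_tensor_forward N (R ⧸ J) (P.under R) P inferInstance hweak
    refine h (P.under R) P hass ((Ideal.eq_top_iff_one _).2 ?_)
    rw [← add_sub_cancel (r : S) 1]
    exact add_mem (Ideal.mem_sup_left r.2) (Ideal.mem_sup_right hmem)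
  refine projective_of_flat_ml_countablyGenerated (ml_of_ui _ hui hml) ?_
  obtain ⟨n, φ, hφ⟩ := Algebra.FiniteType.iff_quotient_mvPolynomial''.1 ‹Algebra.FiniteType R S›
  obtain ⟨G, hG⟩ := Module.Finite.fg_top (R := S) (M := N)
  refine ⟨Set.range (fun x : (Fin n →₀ ℕ) × G => φ (MvPolynomial.monomial x.1 1) • (x.2 : N)),
    Set.countable_range _, top_le_iff.1 fun x _ => ?_⟩
  set T := Submodule.span R (Set.range fun x : (Fin n →₀ ℕ) × G => φ (MvPolynomial.monomial x.1 1) • (x.2 : N)) with hTdef
  have hsmul : ∀ c : MvPolynomial (Fin n) R, ∀ y ∈ T, φ c • y ∈ T := by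
    intro c y hy
    induction c using MvPolynomial.induction_on' with
    | monomial e r =>
      rw [show MvPolynomial.monomial e r = r • MvPolynomial.monomial e (1 : R) by
        rw [MvPolynomial.smul_monomial, smul_eq_mul, mul_one], map_smul, smul_assoc]
      refine Submodule.smul_mem _ _ ?_
      induction hy using Submodule.span_induction with
      | mem _ hm =>
        obtain ⟨⟨d, g⟩, rfl⟩ := hm
        rw [← mul_smul, ← map_mul, MvPolynomial.monomial_mul, mul_one]
        exact Submodule.subset_span ⟨(e + d, g), rfl⟩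
      | zero => rw [smul_zero]; exact zero_mem _
      | add u v _ _ hu hv => rw [smul_add]; exact add_mem hu hv
      | smul r u _ hu => rw [smul_comm]; exact Submodule.smul_mem _ _ hu
    | add u v hu hv => rw [map_add, add_smul]; exact add_mem hu hv
  have hx : x ∈ Submodule.span S (G : Set N) := hG ▸ trivial
  clear * - hx hsmul hφ hTdef
  induction hx using Submodule.span_induction with
  | zero => exact zero_mem _
  | add a b _ _ ha hb => exact add_mem ha hb
  | mem g hg =>
    refine Submodule.subset_span ⟨(0, ⟨g, hg⟩), ?_⟩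
    simp
  | smul c a _ ha =>
    obtain ⟨c, rfl⟩ := hφ c
    exact hsmul c a ha

end Groth.Agent.CAlgUI.ComplML
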