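import Groth.Agent.CAlgUI.Countable
import Groth.Agent.CAlgUI.ML
import Groth.Agent.Hensel.MonicPoly
import Groth.Agent.S0497

/-!
# Countably generated Mittag-Leffler modules over henselian local rings
-/

set_option autoImplicit false
set_option backward.isDefEq.respectTransparency.types false

universe u

open Polynomial

namespace Groth.Agent.CAlgUI

variable {R : Type u} [CommRing R]

theorem fp_of_retract {Q N : Type u} [AddCommGroup Q] [Module R Q] [Module.FinitePresentation R Q]
    [AddCommGroup N] [Module R N] (s : N →ₗ[R] Q) (r : Q →ₗ[R] N) (h : ∀ x, r (s x) = x) :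
    Module.FinitePresentation R N := by
  refine Module.finitePresentation_of_surjective r (fun x => ⟨s x, h x⟩) ?_
  have hker : LinearMap.ker r = LinearMap.range (LinearMap.id - s ∘ₗ r) := by
    refine le_antisymm ?_ ?_
    · intro q hq
      refine ⟨q, ?_⟩
      rw [LinearMap.sub_apply, LinearMap.comp_apply, LinearMap.mem_ker.1 hq, map_zero, sub_zero,
        LinearMap.id_apply]
    · rintro _ ⟨q, rfl⟩
      rw [LinearMap.mem_ker, LinearMap.sub_apply, LinearMap.comp_apply, map_sub, h, LinearMap.id_apply, sub_self]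
  rw [hker, LinearMap.range_eq_map]
  exact (Module.Finite.fg_top).map _

theorem aeval_apply_of_fixed {Q : Type u} [AddCommGroup Q] [Module R Q] (u : Module.End R Q) {z : Q}
    (h : u z = z) (p : R[X]) : aeval u p z = p.eval 1 • z := by
  induction p using Polynomial.induction_on' with
  | add p q hp hq => simp [hp, hq, add_smul]
  | monomial n a =>
    rw [aeval_monomial, eval_monomial, one_pow, mul_one, Module.End.mul_apply, Module.algebraMap_end_apply]
    congr 1
    induction n with
    | zero => rfl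
    | succ n ih => rw [pow_succ, Module.End.mul_apply, h, ih]

/-- An endomorphism of a finite module over a henselian ring is invertible on a direct summand
containing its fixed vectors. -/
theorem exists_idempotent_inverse [HenselianLocalRing R] {Q : Type u} [AddCommGroup Q] [Module R Q]
    [Module.Finite R Q] (u : Module.End R Q) :
    ∃ e w : Module.End R Q, w * e = w ∧ u * w = e ∧ w * u = e ∧ (∀ y, u y = y → e y = y) := by
  obtain ⟨P, hP, hP0⟩ := LinearMap.exists_monic_and_aeval_eq_zero R u
  let ρ := IsLocalRing.residue R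
  have hne : P.map ρ ≠ 0 := (hP.map ρ).ne_zero
  obtain ⟨h₀, hh₀, hnd⟩ := Polynomial.exists_eq_pow_rootMultiplicity_mul_and_not_dvd (P.map ρ) hne 0
  rw [C_0, sub_zero] at hh₀ hnd
  set k := (P.map ρ).rootMultiplicity 0
  have hcop : IsCoprime (X ^ k) h₀ := ((irreducible_X).coprime_iff_not_dvd.2 hnd).pow_left
  obtain ⟨P₀, P₁, hPeq, hP₀, hP₀m, hP₁m⟩ :=
    Groth.Agent.S0497.result R P (X ^ k) h₀ (monic_X_pow k) hcop hh₀
  obtain ⟨a, b, hab⟩ := Groth.Agent.Hensel.isCoprime_of_map_residue hP₀ (R := P₁) (by rwa [hP₀m, hP₁m])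
  let e : Module.End R Q := aeval u (a * P₀)
  have hP10 : IsUnit (P₁.coeff 0) := by
    rw [← IsLocalRing.residue_ne_zero_iff_isUnit, ← coeff_map, hP₁m]
    exact fun h => hnd (X_dvd_iff.2 h)
  obtain ⟨c, hc⟩ := hP10
  have hP01 : IsUnit (P₀.eval 1) := by
    rw [← IsLocalRing.residue_ne_zero_iff_isUnit, ← eval_map_apply, map_one, hP₀m]
    simp
  have hz : ∀ q : R[X], aeval u (q * P) = 0 := fun q => by rw [map_mul, hP0, mul_zero]
  have hsum : e + aeval u (b * P₁) = 1 := by rw [← map_add, hab, map_one]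
  have he1 : aeval u P₁ * e = 0 := by
    rw [← map_mul, show P₁ * (a * P₀) = a * P by rw [hPeq]; ring]; exact hz a
  have hee : e * e = e := by
    have h0 : e * aeval u (b * P₁) = 0 := by
      rw [← map_mul, show a * P₀ * (b * P₁) = a * b * P by rw [hPeq]; ring]; exact hz _
    have := congrArg (e * ·) hsum
    simp only [mul_add, h0, add_zero, mul_one] at this
    exact this
  let g := aeval u P₁.divX
  let w : Module.End R Q := (-(↑c⁻¹ : R)) • (g * e)
  have hcomm : ∀ q : R[X], Commute u (aeval u q) := fun q => by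
    have := ((Commute.all X q).map (aeval (R := R) u))
    rwa [aeval_X] at this
  have huw : u * w = e := by
    have h1 : aeval u P₁ = u * g + (↑c : R) • (1 : Module.End R Q) := by
      conv_lhs => rw [← X_mul_divX_add P₁]
      rw [map_add, map_mul, aeval_X, aeval_C, ← hc, Algebra.algebraMap_eq_smul_one]
    have h2 : u * g * e = -((↑c : R) • e) := by
      rw [h1, add_mul, smul_one_mul] at he1
      exact eq_neg_of_add_eq_zero_left he1
    rw [show w = (-(↑c⁻¹ : R)) • (g * e) from rfl, mul_smul_comm, ← mul_assoc, h2, smul_neg, neg_smul,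
      neg_neg, smul_smul, Units.inv_mul, one_smul]
  have hwe : w * e = w := by
    simp only [w, smul_mul_assoc, mul_assoc, hee]
  have hwu : Commute u w := by
    have : Commute u (g * e) := (hcomm _).mul_right (hcomm _)
    exact this.smul_right _
  refine ⟨e, w, hwe, huw, hwu.eq.symm.trans huw, fun y hy => ?_⟩
  have hfix : u (aeval u (b * P₁) y) = aeval u (b * P₁) y := by
    rw [← Module.End.mul_apply, (hcomm (b * P₁)).eq, Module.End.mul_apply, hy]
  have h0 : aeval u (b * P₁) y = 0 := by
    rw [← hP01.smul_eq_zero, ← aeval_apply_of_fixed u hfix P₀, ← Module.End.mul_apply, ← map_mul,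
      show P₀ * (b * P₁) = b * P by rw [hPeq]; ring, hz, LinearMap.zero_apply]
  have := LinearMap.congr_fun hsum y
  rwa [LinearMap.add_apply, h0, add_zero, Module.End.one_apply] at this

variable {M : Type u} [AddCommGroup M] [Module R M]

/-- Every finite subset lies in a finitely presented direct summand. -/
theorem exists_fp_projection [HenselianLocalRing R] (hML : CAlg.IsMittagLeffler R M)
    (hc : CAlg.IsCountablyGenerated R M) (F : Finset M) :
    ∃ π : M →ₗ[R] M, (∀ x, π (π x) = π x) ∧ Module.FinitePresentation R (LinearMap.range π) ∧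
      ∀ x ∈ F, π x = x := by
  obtain ⟨Q, _, _, _, b, c, hbc⟩ := exists_fp_endo_fixing hML hc F
  obtain ⟨e, w, hwe, huw, hwu, hfix⟩ := exists_idempotent_inverse (b ∘ₗ c : Module.End R Q)
  let π : M →ₗ[R] M := c ∘ₗ w ∘ₗ b
  have huw' : ∀ q, b (c (w q)) = e q := fun q => LinearMap.congr_fun huw q
  have hwu' : ∀ q, w (b (c q)) = e q := fun q => LinearMap.congr_fun hwu q
  have hwe' : ∀ q, w (e q) = w q := fun q => LinearMap.congr_fun hwe q
  have hππ : ∀ q, π (c (w q)) = c (w q) := fun q => by simp [π, huw', hwe']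
  refine ⟨π, fun x => hππ (b x), ?_, fun x hx => ?_⟩
  · refine fp_of_retract (Q := Q) (b ∘ₗ (LinearMap.range π).subtype) ((π.rangeRestrict) ∘ₗ c ∘ₗ w) fun x => ?_
    obtain ⟨_, y, rfl⟩ := x
    exact Subtype.ext (by simp [π, huw', hwe'])
  · have hy : b (c (b x)) = b x := by rw [hbc x hx]
    have he : e (b x) = b x := hfix _ hy
    have h1 : w (b x) = b x := by
      have h := hwu' (b x)
      rw [hy] at h
      rw [h, he]
    simp [π, h1, hbc x hx]

/-- One step of the decomposition. -/
theorem exists_step [HenselianLocalRing R] (hML : CAlg.IsMittagLeffler R M) (hc : CAlg.IsCountablyGenerated R M)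
    (p : M →ₗ[R] M) (hp : ∀ x, p (p x) = p x) (y : M) :
    ∃ d : M →ₗ[R] M, (∀ x, d (d x) = d x) ∧ (∀ x, p (d x) = 0) ∧ (∀ x, d (p x) = 0) ∧
      Module.FinitePresentation R (LinearMap.range d) ∧ p y + d y = y := by
  classical
  let K := LinearMap.ker p
  let pr : M →ₗ[R] K := (LinearMap.id - p).codRestrict K fun x => by simp [K, hp]
  have hpr : ∀ x : K, pr x = x := fun x => Subtype.ext (by simp [pr, LinearMap.mem_ker.1 x.2])
  have hMLK : CAlg.IsMittagLeffler R K :=
    ml_of_ui K.subtype (ui_of_leftInverse pr (LinearMap.ext hpr)) hML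
  have hcK : CAlg.IsCountablyGenerated R K := by
    obtain ⟨s, hs, hspan⟩ := hc
    refine ⟨pr '' s, hs.image _, ?_⟩
    rw [Submodule.span_image, hspan, Submodule.map_top, LinearMap.range_eq_top]
    exact fun x => ⟨x, hpr x⟩
  obtain ⟨π, hπ, hfp, hπy⟩ := exists_fp_projection hMLK hcK {pr y}
  let d : M →ₗ[R] M := K.subtype ∘ₗ π ∘ₗ pr
  have hdd : ∀ x, d (d x) = d x := fun x => by simp [d, hpr, hπ]
  refine ⟨d, hdd, fun x => LinearMap.mem_ker.1 (π (pr x)).2, fun x => ?_, ?_, ?_⟩
  · have : pr (p x) = 0 := Subtype.ext (by simp [pr, hp])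
    simp [d, this]
  · haveI := hfp
    refine fp_of_retract (Q := LinearMap.range π)
      ((π.rangeRestrict ∘ₗ pr) ∘ₗ (LinearMap.range d).subtype)
      ((d.rangeRestrict ∘ₗ K.subtype) ∘ₗ (LinearMap.range π).subtype) fun x => ?_
    obtain ⟨_, z, rfl⟩ := x
    exact Subtype.ext (by simp [d, hpr, hπ])
  · simp [d, hπy (pr y) (Finset.mem_singleton_self _), pr]

/-- Decomposition into finitely presented pieces. -/
theorem exists_decomposition [HenselianLocalRing R] (hML : CAlg.IsMittagLeffler R M)
    (hc : CAlg.IsCountablyGenerated R M) :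
    ∃ N : ULift.{u} ℕ → Submodule R M, DirectSum.IsInternal N ∧ ∀ i, Module.FinitePresentation R (N i) := by
  classical
  have hc' := hc
  obtain ⟨s, hs, hspan⟩ := hc'
  obtain ⟨gen, hgen⟩ := (hs.insert 0).exists_eq_range (Set.insert_nonempty _ _)
  choose step hdd hpd hdp hfp hfix using exists_step hML hc
  let P : ℕ → {p : M →ₗ[R] M // ∀ x, p (p x) = p x} := fun n =>
    Nat.rec ⟨0, fun x => rfl⟩ (fun n p => ⟨p.1 + step p.1 p.2 (gen n), fun x => by
      simp [p.2, hdd, hpd, hdp]⟩) n
  let d : ℕ → (M →ₗ[R] M) := fun n => step (P n).1 (P n).2 (gen n)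
  have hsucc : ∀ n, (P (n + 1)).1 = (P n).1 + d n := fun n => rfl
  have hPP : ∀ m n, m ≤ n → ∀ x, (P n).1 ((P m).1 x) = (P m).1 x ∧ (P m).1 ((P n).1 x) = (P m).1 x := by
    intro m n hmn
    induction n, hmn using Nat.le_induction with
    | base => exact fun x => ⟨(P m).2 x, (P m).2 x⟩
    | succ n hmn ih =>
      intro x
      have h1 : d n ((P m).1 x) = 0 := by rw [← (ih x).1]; exact hdp _ _ _ _
      have h2 : (P m).1 (d n x) = 0 := by rw [← (ih (d n x)).2]; simp [d, hpd]
      simp [hsucc, h1, h2, ih x]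
  have hev : ∀ x : M, ∃ K, ∀ n, K ≤ n → (P n).1 x = x := by
    intro x
    have hx : x ∈ Submodule.span R s := hspan ▸ Submodule.mem_top
    induction hx using Submodule.span_induction with
    | mem x hx =>
      obtain ⟨k, rfl⟩ : x ∈ Set.range gen := hgen ▸ Set.mem_insert_of_mem 0 hx
      refine ⟨k + 1, fun n hn => ?_⟩
      have hk : (P (k + 1)).1 (gen k) = gen k := by rw [hsucc]; exact hfix _ _ _
      rw [← hk, (hPP (k + 1) n hn _).1]
    | zero => exact ⟨0, fun n _ => map_zero _⟩
    | add a b _ _ ha hb =>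
      obtain ⟨ka, ha⟩ := ha
      obtain ⟨kb, hb⟩ := hb
      exact ⟨ka + kb, fun n hn => by rw [map_add, ha n (by omega), hb n (by omega)]⟩
    | smul r a _ ha =>
      obtain ⟨ka, ha⟩ := ha
      exact ⟨ka, fun n hn => by rw [map_smul, ha n hn]⟩
  have hPd : ∀ i j, i < j → ∀ x, (P j).1 (d i x) = d i x := fun i j hij x => by
    have h : (P (i + 1)).1 (d i x) = d i x := by simp [hsucc, d, hpd, hdd]
    rw [← h, (hPP (i + 1) j hij _).1]
  have horth : ∀ i j, i ≠ j → ∀ x, d i (d j x) = 0 := by
    intro i j hij x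
    rcases Nat.lt_or_ge j i with h | h
    · rw [← hPd j i h x]; exact hdp _ _ _ _
    · have hlt : i < j := lt_of_le_of_ne h hij
      have h2 : ∀ z, d i ((P j).1 z) = d i z := fun z => by
        have h3 : (P (i + 1)).1 ((P j).1 z) = (P (i + 1)).1 z := (hPP (i + 1) j hlt z).2
        have h4 : ∀ z, d i ((P (i + 1)).1 z) = d i z := fun z => by simp [hsucc, d, hdp, hdd]
        rw [← h4, h3, h4]
      rw [← h2, show (P j).1 (d j x) = 0 from hpd _ _ _ x, map_zero]
  refine ⟨fun i => LinearMap.range (d i.down), ?_, fun i => hfp _ _ _⟩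
  rw [DirectSum.isInternal_submodule_iff_iSupIndep_and_iSup_eq_top]
  constructor
  · intro i
    rw [Submodule.disjoint_def]
    rintro _ ⟨z, rfl⟩ hz
    have hle : (⨆ (j) (_ : j ≠ i), LinearMap.range (d j.down)) ≤ LinearMap.ker (d i.down) :=
      iSup₂_le fun j hj => by
        rintro _ ⟨w, rfl⟩
        exact horth _ _ (fun h => hj (ULift.ext _ _ h.symm)) w
    rw [← hdd _ _ _ z]
    exact hle hz
  · rw [eq_top_iff]
    intro x _
    obtain ⟨K, hK⟩ := hev x
    have hmem : ∀ n, (P n).1 x ∈ ⨆ i : ULift.{u} ℕ, LinearMap.range (d i.down) := by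
      intro n
      induction n with
      | zero => exact zero_mem _
      | succ n ih =>
        rw [hsucc, LinearMap.add_apply]
        exact add_mem ih (Submodule.mem_iSup_of_mem ⟨n⟩ ⟨x, rfl⟩)
    rw [← hK K le_rfl]
    exact hmem K

end Groth.Agent.CAlgUI
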